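import Mathlib

/-!
# Counting automorphisms of a finite normal domain (helper29)
-/

set_option autoImplicit false
set_option linter.style.haveILetI false
set_option linter.unusedSectionVars false

namespace Groth.Agent.Lib.Helper29.WildLift

open nonZeroDivisors

/-- the number of `R`-algebra automorphisms of a normal domain `A` finite over `R` is at most the
rank of `A` over `R`. -/
theorem card_algEquiv_le_finrank {R A : Type*} [CommRing R] [CommRing A] [IsDomain A]
    [IsIntegrallyClosed A] [Algebra R A] [Module.Finite R A]
    (hinj : Function.Injective (algebraMap R A)) :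
    Finite (A ≃ₐ[R] A) ∧ Nat.card (A ≃ₐ[R] A) ≤ Module.finrank R A := by
  haveI : IsDomain R := hinj.isDomain
  haveI : FaithfulSMul R A := (faithfulSMul_iff_algebraMap_injective R A).mpr hinj
  let K := FractionRing R
  let L := FractionRing A
  letI : Algebra K L := FractionRing.liftAlgebra R L
  haveI : IsScalarTower R K L := FractionRing.isScalarTower_liftAlgebra R L
  haveI : IsIntegralClosure A R L := IsIntegralClosure.of_isIntegrallyClosed _ _ _
  haveI : Algebra.IsAlgebraic K L := isAlgebraic_of_isFractionRing R A ..
  haveI : IsLocalization (Algebra.algebraMapSubmonoid A R⁰) L :=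
    IsIntegralClosure.isLocalization _ K _ _
  haveI : FiniteDimensional K L := .of_isLocalization R A R⁰
  let e := galRestrict R K L A
  haveI : Finite (A ≃ₐ[R] A) := Finite.of_equiv _ e.toEquiv
  refine ⟨inferInstance, ?_⟩
  rw [← Nat.card_congr e.toEquiv, Nat.card_eq_fintype_card, ← IsFractionRing.finrank_eq R K A L]
  exact AlgEquiv.card_le

/-- an action on a local ring of positive dimension with trivial inertia at the zero ideal is
faithful. -/
theorem faithfulSMul_of_inertia_bot {A : Type*} [CommRing A] [IsDomain A] {G : Type*} [Group G]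
    [MulSemiringAction G A] (h : (⊥ : Ideal A).inertia G = ⊥) : FaithfulSMul G A :=
  ⟨fun {g₁ g₂} hg => by
    have h1 : g₂⁻¹ * g₁ ∈ (⊥ : Ideal A).inertia G := by
      intro a
      change (g₂⁻¹ * g₁) • a - a ∈ (⊥ : Ideal A)
      rw [Ideal.mem_bot, sub_eq_zero, mul_smul, hg a, inv_smul_smul]
    rw [h, Subgroup.mem_bot, inv_mul_eq_one] at h1
    exact h1.symm⟩

end Groth.Agent.Lib.Helper29.WildLift
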