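import Mathlib

/-!
# Twisted lifts of a simple field extension (helper29)

Field-level lemmas for lifting an automorphism of the base field `K` of a finite Galois extension
`L = K(θ)` to a ring homomorphism out of `L`.
-/

set_option autoImplicit false

namespace Groth.Agent.Lib.Helper29.WildLift

open Polynomial IntermediateField

section FieldLift

variable {K L M : Type*} [Field K] [Field L] [Field M] [Algebra K L]

/-- two ring homs out of `L = K(θ)` agreeing on `K` and at `θ` are equal. -/
theorem ringHom_ext_of_adjoin_eq_top {θ : L} (hθ : K⟮θ⟯ = ⊤) (τ τ' : L →+* M)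
    (hK : ∀ c : K, τ (algebraMap K L c) = τ' (algebraMap K L c)) (h : τ θ = τ' θ) : τ = τ' := by
  let S : IntermediateField K L := (RingHom.eqLocusField τ τ').toIntermediateField (fun c => hK c)
  have hle : K⟮θ⟯ ≤ S := by
    rw [IntermediateField.adjoin_simple_le_iff]
    exact h
  rw [hθ] at hle
  ext x
  exact hle (IntermediateField.mem_top)

/-- a ring hom `i` out of `K` and a root `θ'` of the `i`-twisted minimal polynomial of `θ` define a
ring hom out of `L = K(θ)`. -/
theorem exists_twisted_lift {θ : L} (hθ : K⟮θ⟯ = ⊤) (hint : IsIntegral K θ) (i : K →+* M)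
    (θ' : M) (h : (minpoly K θ).eval₂ i θ' = 0) :
    ∃ τ : L →+* M, (∀ c : K, τ (algebraMap K L c) = i c) ∧ τ θ = θ' := by
  let e₁ := IntermediateField.adjoinRootEquivAdjoin K hint
  let e₂ : K⟮θ⟯ ≃ₐ[K] L := (IntermediateField.equivOfEq hθ).trans IntermediateField.topEquiv
  let e := e₁.trans e₂
  refine ⟨(AdjoinRoot.lift i θ' h).comp (e.symm : L ≃+* _).toRingHom, ?_, ?_⟩
  · intro c
    have : e.symm (algebraMap K L c) = AdjoinRoot.of (minpoly K θ) c := by
      rw [AlgEquiv.symm_apply_eq]
      exact (e.commutes c).symm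
    simp only [RingHom.coe_comp, Function.comp_apply]
    change AdjoinRoot.lift i θ' h (e.symm (algebraMap K L c)) = i c
    rw [this, AdjoinRoot.lift_of]
  · have : e.symm θ = AdjoinRoot.root (minpoly K θ) := by
      rw [AlgEquiv.symm_apply_eq]
      change θ = e₂ (e₁ (AdjoinRoot.root (minpoly K θ)))
      rw [IntermediateField.adjoinRootEquivAdjoin_apply_root]
      rfl
    change AdjoinRoot.lift i θ' h (e.symm θ) = θ'
    rw [this, AdjoinRoot.lift_root]

/-- the roots of the twisted minimal polynomial are the images of the roots in `L`. -/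
theorem exists_root_of_twisted_root {f : K[X]} (hf0 : f ≠ 0)
    (hsplit : (f.map (algebraMap K L)).Splits)
    (τ : L →+* M) (y : M) (hy : f.eval₂ (τ.comp (algebraMap K L)) y = 0) :
    ∃ x : L, aeval x f = 0 ∧ τ x = y := by
  have h1 : ((f.map (algebraMap K L)).map τ).IsRoot y := by
    rw [IsRoot.def, Polynomial.map_map, eval_map]
    exact hy
  have hne : (f.map (algebraMap K L)).map τ ≠ 0 := by
    rw [Polynomial.map_map]
    exact Polynomial.map_ne_zero hf0
  rw [← mem_roots hne, hsplit.roots_map, Multiset.mem_map] at h1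
  obtain ⟨x, hx, rfl⟩ := h1
  refine ⟨x, ?_, rfl⟩
  rw [mem_roots (Polynomial.map_ne_zero hf0), IsRoot.def, eval_map_algebraMap] at hx
  exact hx

end FieldLift

end Groth.Agent.Lib.Helper29.WildLift
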