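import Mathlib
import Groth.Agent.Lib.Helper29.WildLift.Field

/-!
# The Galois group of the twisted splitting field (helper29)

`L/K` finite Galois with group `G`, `L = K(θ)`, `φK` an automorphism of `K`, `L₁` an extension of
`L` together with `τ₁ : L → L₁` extending `φK`.  Every `L`-automorphism of `L₁` acts on `τ₁ L`
through an element of `G`.
-/

set_option autoImplicit false
set_option linter.style.haveILetI false
set_option linter.unusedSectionVars false

namespace Groth.Agent.Lib.Helper29.WildLift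

open Polynomial IntermediateField

section Case2

variable {K L : Type*} [Field K] [Field L] [Algebra K L]
  {G : Type*} [Group G] [Finite G] [MulSemiringAction G L] [IsGaloisGroup G K L]
  {L₁ : Type*} [Field L₁] [Algebra L L₁]

/-- the twisted minimal polynomial of `θ`, a polynomial over `L`. -/
noncomputable def twist (θ : L) (φK : K ≃+* K) : L[X] :=
  (minpoly K θ).map ((algebraMap K L).comp (φK : K →+* K))

variable {θ : L} (hθ : K⟮θ⟯ = ⊤) (φK : K ≃+* K) (τ₁ : L →+* L₁)
  (hτ : ∀ c : K, τ₁ (algebraMap K L c) = algebraMap L L₁ (algebraMap K L (φK c)))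

include hθ hτ in
theorem exists_smul_eq (σ : L₁ ≃ₐ[L] L₁) : ∃ g : G, ∀ x : L, σ (τ₁ x) = τ₁ (g • x) := by
  haveI : FiniteDimensional K L := IsGaloisGroup.finiteDimensional G K L
  haveI : IsGalois K L := IsGaloisGroup.isGalois G K L
  haveI : SMulCommClass G K L := IsGaloisGroup.commutes
  have hint : IsIntegral K θ := Algebra.IsIntegral.isIntegral θ
  have hsplit := Normal.splits (inferInstance : Normal K L) θ
  have hσK : ∀ c : K, σ (τ₁ (algebraMap K L c)) = τ₁ (algebraMap K L c) := by
    intro c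
    rw [hτ, σ.commutes]
  have hcomp : ((σ : L₁ ≃+* L₁) : L₁ →+* L₁).comp (τ₁.comp (algebraMap K L)) =
      τ₁.comp (algebraMap K L) := by
    ext c
    exact hσK c
  have h1 : (minpoly K θ).eval₂ (τ₁.comp (algebraMap K L)) (τ₁ θ) = 0 := by
    rw [← hom_eval₂, ← aeval_def, minpoly.aeval, map_zero]
  have h2 : (minpoly K θ).eval₂ (τ₁.comp (algebraMap K L)) (σ (τ₁ θ)) = 0 := by
    have := congrArg ((σ : L₁ ≃+* L₁) : L₁ →+* L₁) h1
    rw [hom_eval₂, hcomp, map_zero] at this
    exact this
  obtain ⟨x₁, hx₁, hx₁'⟩ :=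
    exists_root_of_twisted_root (minpoly.ne_zero hint) hsplit τ₁ _ h2
  obtain ⟨s, hs⟩ := minpoly.exists_algEquiv_of_root' hint.isAlgebraic hx₁
  obtain ⟨g, rfl⟩ := (IsGaloisGroup.mulEquivAlgEquiv G K L).surjective s
  rw [IsGaloisGroup.mulEquivAlgEquiv_apply_apply] at hs
  refine ⟨g, ?_⟩
  have key : (((σ : L₁ ≃+* L₁) : L₁ →+* L₁).comp τ₁) =
      τ₁.comp (MulSemiringAction.toRingHom G L g) := by
    apply ringHom_ext_of_adjoin_eq_top hθ
    · intro c
      simp only [RingHom.coe_comp, Function.comp_apply, MulSemiringAction.toRingHom_apply]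
      rw [smul_algebraMap]
      exact hσK c
    · simp only [RingHom.coe_comp, Function.comp_apply, MulSemiringAction.toRingHom_apply]
      rw [hs]
      exact hx₁'.symm
  intro x
  exact congrArg (fun h : L →+* L₁ => h x) key

include hθ hτ in
theorem exists_monoidHom :
    ∃ ρ : (L₁ ≃ₐ[L] L₁) →* G, ∀ (σ : L₁ ≃ₐ[L] L₁) (x : L), σ (τ₁ x) = τ₁ (ρ σ • x) := by
  haveI : FaithfulSMul G L := IsGaloisGroup.faithful K
  choose r hr using exists_smul_eq (G := G) hθ φK τ₁ hτ
  refine ⟨MonoidHom.mk' r (fun σ σ' => ?_), hr⟩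
  apply eq_of_smul_eq_smul (α := L)
  intro x
  apply τ₁.injective
  rw [← hr, mul_smul, ← hr, ← hr]
  rfl

include hθ hτ in
theorem monoidHom_injective [IsSplittingField L L₁ (twist θ φK)]
    (ρ : (L₁ ≃ₐ[L] L₁) →* G) (hρ : ∀ (σ : L₁ ≃ₐ[L] L₁) (x : L), σ (τ₁ x) = τ₁ (ρ σ • x)) :
    Function.Injective ρ := by
  haveI : FiniteDimensional K L := IsGaloisGroup.finiteDimensional G K L
  haveI : IsGalois K L := IsGaloisGroup.isGalois G K L
  have hint : IsIntegral K θ := Algebra.IsIntegral.isIntegral θ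
  have hsplit := Normal.splits (inferInstance : Normal K L) θ
  rw [injective_iff_map_eq_one]
  intro σ hσ
  have hfix : ∀ x : L, σ (τ₁ x) = τ₁ x := by
    intro x
    rw [hρ, hσ, one_smul]
  have hcompeq : (algebraMap L L₁).comp ((algebraMap K L).comp (φK : K →+* K)) =
      τ₁.comp (algebraMap K L) := by
    ext c
    exact (hτ c).symm
  have hroots : Set.EqOn (σ : L₁ →ₐ[L] L₁) (AlgHom.id L L₁) ((twist θ φK).rootSet L₁) := by
    intro y hy
    rw [mem_rootSet'] at hy
    have hy2 : (minpoly K θ).eval₂ (τ₁.comp (algebraMap K L)) y = 0 := by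
      have := hy.2
      rw [twist, aeval_def, eval₂_map, hcompeq] at this
      exact this
    obtain ⟨x, -, rfl⟩ := exists_root_of_twisted_root (minpoly.ne_zero hint) hsplit τ₁ y hy2
    exact hfix x
  have := AlgHom.ext_of_adjoin_eq_top (IsSplittingField.adjoin_rootSet L₁ (twist θ φK)) hroots
  ext y
  exact congrArg (fun h : L₁ →ₐ[L] L₁ => h y) this

theorem twist_separable [Algebra.IsSeparable K L] : (twist θ φK).Separable :=
  Polynomial.Separable.map (Algebra.IsSeparable.isSeparable K θ)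

theorem isGalois_of_isSplittingField [Algebra.IsSeparable K L]
    [IsSplittingField L L₁ (twist θ φK)] : IsGalois L L₁ :=
  IsGalois.of_separable_splitting_field (p := twist θ φK) (twist_separable (θ := θ) φK)

include hθ hτ in
theorem card_aut_eq [IsSplittingField L L₁ (twist θ φK)] (hp : (Nat.card G).Prime)
    (hnoroot : ∀ x : L, (twist θ φK).eval x ≠ 0) :
    Nat.card (L₁ ≃ₐ[L] L₁) = Nat.card G := by
  haveI : FiniteDimensional K L := IsGaloisGroup.finiteDimensional G K L
  haveI : IsGalois K L := IsGaloisGroup.isGalois G K L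
  haveI : IsGalois L L₁ := isGalois_of_isSplittingField (θ := θ) φK
  haveI : FiniteDimensional L L₁ := IsSplittingField.finiteDimensional L₁ (twist θ φK)
  have hint : IsIntegral K θ := Algebra.IsIntegral.isIntegral θ
  obtain ⟨ρ, hρ⟩ := exists_monoidHom (G := G) hθ φK τ₁ hτ
  have hinj := monoidHom_injective hθ φK τ₁ hτ ρ hρ
  have hdvd := Subgroup.card_dvd_of_injective ρ hinj
  rcases (Nat.dvd_prime hp).mp hdvd with h1 | h1
  · exfalso
    rw [IsGalois.card_aut_eq_finrank] at h1
    have hbt : (⊥ : Subalgebra L L₁) = ⊤ := Subalgebra.bot_eq_top_of_finrank_eq_one h1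
    have hdeg : (map (algebraMap L L₁) (twist θ φK)).degree ≠ 0 := by
      rw [degree_map, twist, degree_map]
      exact (minpoly.degree_pos hint).ne'
    obtain ⟨y, hy⟩ := (IsSplittingField.splits L₁ (twist θ φK)).exists_eval_eq_zero hdeg
    have hy' : y ∈ (⊥ : Subalgebra L L₁) := by rw [hbt]; exact Algebra.mem_top
    obtain ⟨x, rfl⟩ := Algebra.mem_bot.mp hy'
    rw [eval_map_algebraMap, aeval_algebraMap_apply, map_eq_zero] at hy
    exact hnoroot x (by rwa [← coe_aeval_eq_eval])
  · exact h1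

end Case2

end Groth.Agent.Lib.Helper29.WildLift
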