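import Mathlib
import Groth.Agent.Lib.Helper29.Inertia.Generated

/-!
# Inertia of a twisted cover and étaleness from trivial inertia (helper29)

* `inertia_eq_bot_of_twist`: abstract form of "the compositum of a cover ramified only at the
  origin with a twist of it is unramified over the cover away from the origin".
* `isEtaleAt_of_inertia_eq_bot`: if a finite group `H` acts on `S` with ring of invariants `R`, then
  `S` is étale over `R` at every prime with trivial inertia group.
-/

set_option autoImplicit false
set_option linter.style.haveILetI false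
set_option linter.unusedSectionVars false
universe u v w

namespace Groth.Agent.Lib.Helper29.WildLift

open IsLocalRing Groth.Agent.Lib.Helper29.InertiaGen

theorem inertia_eq_bot_of_twist
    {A : Type v} [CommRing A] [IsLocalRing A] {G : Type w} [Group G] [Finite G]
    [MulSemiringAction G A]
    (hram : ∀ P : Ideal A, P.IsPrime → P ≠ maximalIdeal A → P.inertia G = ⊥)
    (φ₀ : FixedPoints.subring A G ≃+* FixedPoints.subring A G)
    {D : Type*} [CommRing D] [Algebra A D] {H : Type*} [Group H] [MulSemiringAction H D]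
    (τA : A →+* D)
    (hτA : ∀ b : FixedPoints.subring A G, τA (b : A) = algebraMap A D ((φ₀ b : A)))
    (ρ : H → G) (hρ : ∀ (σ : H) (a : A), σ • τA a = τA (ρ σ • a)) (hρ1 : ∀ σ, ρ σ = 1 → σ = 1)
    (q : Ideal D) [q.IsPrime] (hq : q.comap (algebraMap A D) ≠ maximalIdeal A) :
    q.inertia H = ⊥ := by
  let B₀ := FixedPoints.subring A G
  haveI : IsLocalRing B₀ := isLocalRing_fixed A G
  haveI : Algebra.IsInvariant B₀ A G := ⟨fun a ha => ⟨⟨a, ha⟩, rfl⟩⟩
  haveI : Algebra.IsIntegral B₀ A := Algebra.IsInvariant.isIntegral B₀ A G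
  have hP' : q.comap τA ≠ maximalIdeal A := by
    intro hP'
    apply hq
    set Q := q.comap (algebraMap A D) with hQ
    haveI : Q.IsPrime := Ideal.comap_isPrime _ _
    have hle : maximalIdeal B₀ ≤ Q.comap (algebraMap B₀ A) := by
      intro b hb
      have h1 : φ₀.symm b ∈ maximalIdeal B₀ := by
        rw [mem_maximalIdeal, mem_nonunits_iff] at hb ⊢
        intro h
        apply hb
        have := h.map φ₀
        rwa [RingEquiv.apply_symm_apply] at this
      have h2 : ((φ₀.symm b : B₀) : A) ∈ q.comap τA := by
        rw [hP']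
        exact (mem_maximalIdeal_fixed_iff A G _).mp h1
      rw [Ideal.mem_comap, hτA, RingEquiv.apply_symm_apply] at h2
      exact h2
    have hmax : (Q.comap (algebraMap B₀ A)).IsMaximal := by
      have hne : Q.comap (algebraMap B₀ A) ≠ ⊤ := Ideal.comap_ne_top _ Ideal.IsPrime.ne_top'
      rw [← (maximalIdeal.isMaximal B₀).eq_of_le hne hle]
      infer_instance
    have := Ideal.isMaximal_of_isIntegral_of_isMaximal_comap Q hmax
    exact eq_maximalIdeal this
  haveI : (q.comap τA).IsPrime := Ideal.comap_isPrime _ _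
  have hin := hram (q.comap τA) inferInstance hP'
  rw [eq_bot_iff]
  intro σ hσ
  rw [Subgroup.mem_bot]
  apply hρ1
  have : ρ σ ∈ (q.comap τA).inertia G := by
    intro a
    show τA (ρ σ • a - a) ∈ q
    rw [map_sub, ← hρ]
    exact hσ (τA a)
  rw [hin, Subgroup.mem_bot] at this
  exact this

section Etale

variable {R S : Type u} [CommRing R] [CommRing S] [Algebra R S]
  {H : Type w} [Group H] [Finite H] [MulSemiringAction H S] [SMulCommClass H R S]

theorem isEtaleAt_of_inertia_eq_bot (hinj : Function.Injective (algebraMap R S))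
    (hinv : ∀ s : S, (∀ h : H, h • s = s) → s ∈ Set.range (algebraMap R S))
    (q : Ideal S) [q.IsPrime] (hq : q.inertia H = ⊥) : Algebra.IsEtaleAt R q := by
  let S₀ := FixedPoints.subring S H
  let SI := FixedPoints.subring S (q.inertia H)
  have h1 : Algebra.IsEtaleAt S₀ (q.comap SI.subtype) := isEtaleAt_fixedPoints_inertia (H := H) q
  -- `R ≃ S₀`
  have hmem : ∀ r : R, algebraMap R S r ∈ S₀ := fun r h => smul_algebraMap h r
  let f₀ : R →+* S₀ := (algebraMap R S).codRestrict S₀ hmem
  have hf₀ : Function.Bijective f₀ := by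
    constructor
    · intro x y hxy
      exact hinj (congrArg Subtype.val hxy)
    · intro s
      obtain ⟨r, hr⟩ := hinv s.1 s.2
      exact ⟨r, Subtype.ext hr⟩
  letI : Algebra R S₀ := f₀.toAlgebra
  let e₀ : R ≃ₐ[R] S₀ := AlgEquiv.ofBijective (Algebra.ofId R S₀) hf₀
  haveI : Algebra.FormallyEtale R S₀ := Algebra.FormallyEtale.of_equiv e₀
  -- the localization
  let T' := Localization.AtPrime (q.comap SI.subtype)
  letI : Algebra R T' := ((algebraMap S₀ T').comp (algebraMap R S₀)).toAlgebra
  haveI : IsScalarTower R S₀ T' := IsScalarTower.of_algebraMap_eq (fun _ => rfl)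
  haveI : Algebra.FormallyEtale S₀ T' := h1
  haveI : Algebra.FormallyEtale R T' := Algebra.FormallyEtale.comp R S₀ T'
  -- `SI ≃ S`
  have hsub : Function.Bijective SI.subtype := by
    refine ⟨Subtype.val_injective, fun s => ⟨⟨s, ?_⟩, rfl⟩⟩
    rintro ⟨h, hh⟩
    rw [hq, Subgroup.mem_bot] at hh
    subst hh
    exact one_smul _ _
  let eI : SI ≃+* S := RingEquiv.ofBijective SI.subtype hsub
  have hmap : Submonoid.map eI.toMonoidHom (q.comap SI.subtype).primeCompl = q.primeCompl := by
    ext s
    constructor
    · rintro ⟨t, ht, rfl⟩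
      exact ht
    · intro hs
      obtain ⟨t, rfl⟩ := hsub.2 s
      exact ⟨t, hs, rfl⟩
  let e := IsLocalization.ringEquivOfRingEquiv T' (Localization.AtPrime q) eI hmap
  have hcomm : ∀ r : R, e (algebraMap R T' r) = algebraMap R (Localization.AtPrime q) r := by
    intro r
    change e (algebraMap SI T' ⟨algebraMap R S r, fun h => smul_algebraMap (h : H) r⟩) = _
    rw [IsLocalization.ringEquivOfRingEquiv_eq]
    exact (IsScalarTower.algebraMap_apply R S (Localization.AtPrime q) r).symm
  exact Algebra.FormallyEtale.of_equiv (AlgEquiv.ofRingEquiv (f := e) hcomm)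

end Etale

end Groth.Agent.Lib.Helper29.WildLift
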