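import Mathlib
import Groth.Agent.Lib.Helper3.CompleteFinite

/-!
# No Galois cover of prime degree of a complete local ring whose residue field has none (helper29)

`no_galois_cover`: let `A` be a complete Noetherian local ring whose residue field (the image of
a field `k`) has no Galois extension of degree `p`.  Then there is no finite étale domain `D` over
`A` that is Galois with a group of order `p`.
-/

set_option autoImplicit false
set_option linter.style.haveILetI false
set_option linter.unusedSectionVars false
universe u v w

namespace Groth.Agent.Lib.Helper29.WildLift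

open IsLocalRing

/-- a domain finite over a complete Noetherian local ring is local. -/
theorem isLocalRing_of_complete_of_isDomain (A D : Type u) [CommRing A] [IsLocalRing A]
    [IsNoetherianRing A] [IsAdicComplete (maximalIdeal A) A] [CommRing D] [IsDomain D]
    [Algebra A D] [Module.Finite A D] : IsLocalRing D := by
  classical
  obtain ⟨-, hbij, -⟩ := Groth.Agent.Lib.Helper3.finite_algebra_over_complete_local A D
  obtain ⟨M, hM⟩ := Ideal.exists_maximal D
  apply IsLocalRing.of_unique_max_ideal
  refine ⟨M, hM, fun M' hM' => ?_⟩
  by_contra hne
  let m : MaximalSpectrum D := ⟨M, hM⟩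
  let m' : MaximalSpectrum D := ⟨M', hM'⟩
  have hmm' : m' ≠ m := fun h => hne (congrArg MaximalSpectrum.asIdeal h)
  obtain ⟨e, he⟩ := hbij.2 (Pi.single m 1)
  have he1 : e ≠ 0 := by
    intro h
    have := congrFun he m
    rw [h, map_zero, Pi.single_eq_same] at this
    exact zero_ne_one this
  have he2 : 1 - e ≠ 0 := by
    intro h
    have h2 : algebraMap D ((m : MaximalSpectrum D) → Localization.AtPrime m.asIdeal) (1 - e) = 0 := by
      rw [h, map_zero]
    have := congrFun h2 m'
    rw [map_sub, he, map_one, Pi.sub_apply, Pi.one_apply, Pi.single_eq_of_ne hmm', sub_zero] at this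
    exact one_ne_zero this
  have he3 : e * (1 - e) = 0 := by
    apply hbij.1
    rw [map_mul, map_sub, he, map_one, map_zero]
    funext i
    by_cases hi : i = m
    · subst hi
      simp
    · simp [Pi.single_eq_of_ne hi]
  rcases mul_eq_zero.mp he3 with h | h
  · exact he1 h
  · exact he2 h

theorem no_galois_cover (p : ℕ)
    {A : Type u} [CommRing A] [IsLocalRing A] [IsNoetherianRing A]
    [IsAdicComplete (maximalIdeal A) A]
    {k : Type v} [Field k] [Algebra k A]
    (hk : Function.Surjective (residue A ∘ algebraMap k A))
    (hkp : ∀ (L : Type v) [Field L] [Algebra k L], IsGalois k L → Module.finrank k L ≠ p)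
    {D : Type u} [CommRing D] [IsDomain D] [Algebra A D] [Module.Finite A D]
    (hinj : Function.Injective (algebraMap A D))
    [Algebra.FormallyUnramified A D] [Module.Flat A D]
    {H : Type w} [Group H] [Finite H] [MulSemiringAction H D] [IsGaloisGroup H A D]
    (hcard : Nat.card H = p) : False := by
  haveI : IsLocalRing D := isLocalRing_of_complete_of_isDomain A D
  haveI : IsNoetherianRing D := IsNoetherianRing.of_finite A D
  letI : Algebra k D := ((algebraMap A D).comp (algebraMap k A)).toAlgebra
  haveI : IsScalarTower k A D := IsScalarTower.of_algebraMap_eq (fun _ => rfl)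
  haveI : SMulCommClass H A D := IsGaloisGroup.commutes
  haveI : FaithfulSMul H D := IsGaloisGroup.faithful A
  haveI : FaithfulSMul A D := (faithfulSMul_iff_algebraMap_injective A D).mpr hinj
  haveI : Algebra.IsIntegral A D := Algebra.IsIntegral.of_finite A D
  -- `A → D` is local
  have hloc : ∀ a : A, a ∈ maximalIdeal A → algebraMap A D a ∈ maximalIdeal D := by
    intro a ha
    have h1 : ((maximalIdeal D).comap (algebraMap A D)).IsMaximal :=
      Ideal.isMaximal_comap_of_isIntegral_of_isMaximal (maximalIdeal D)
    rw [← eq_maximalIdeal h1] at ha
    exact ha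
  -- `H` commutes with `k` on the residue field
  haveI : SMulCommClass H k (ResidueField D) := ⟨fun h c x => by
    obtain ⟨d, rfl⟩ := residue_surjective x
    rw [Algebra.smul_def, Algebra.smul_def, smul_mul']
    congr 1
    change h • residue D (algebraMap A D (algebraMap k A c)) =
      residue D (algebraMap A D (algebraMap k A c))
    rw [← ResidueField.residue_smul, smul_algebraMap]⟩
  -- rank
  haveI : Module.Free A D := Module.free_of_flat_of_isLocalRing
  have hrank : Module.finrank A D = p := by
    rw [← hcard]
    exact (IsGaloisGroup.card_eq_finrank' H A D).symm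
  let b := Module.finBasisOfFinrankEq A D hrank
  have hspan : Submodule.span k (Set.range (fun i => residue D (b i))) = ⊤ := by
    rw [eq_top_iff]
    rintro x -
    obtain ⟨d, rfl⟩ := residue_surjective x
    rw [← b.sum_repr d, map_sum]
    refine Submodule.sum_mem _ (fun i _ => ?_)
    obtain ⟨c, hc⟩ := hk (residue A (b.repr d i))
    have hc' : b.repr d i - algebraMap k A c ∈ maximalIdeal A := by
      rw [← residue_eq_zero_iff, map_sub, sub_eq_zero]
      exact hc.symm
    have h2 : residue D (b.repr d i • b i) = c • residue D (b i) := by
      rw [Algebra.smul_def, map_mul, Algebra.smul_def]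
      congr 1
      change residue D (algebraMap A D (b.repr d i)) =
        residue D (algebraMap A D (algebraMap k A c))
      rw [← sub_eq_zero, ← map_sub, ← map_sub, residue_eq_zero_iff]
      exact hloc _ hc'
    rw [h2]
    exact Submodule.smul_mem _ _ (Submodule.subset_span ⟨i, rfl⟩)
  haveI : Module.Finite k (ResidueField D) :=
    Module.finite_def.mpr (hspan ▸ Submodule.fg_span (Set.finite_range _))
  have hfin : Module.finrank k (ResidueField D) ≤ p := by
    have := finrank_le_of_span_eq_top hspan
    simpa using this
  -- the injective hom to the automorphism group of the residue field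
  let f : H →* (ResidueField D ≃ₐ[k] ResidueField D) :=
    MulSemiringAction.toAlgAut H k (ResidueField D)
  have hf : Function.Injective f := by
    rw [injective_iff_map_eq_one]
    intro h hh
    have h1 : ∀ d : D, h • d - d ∈ maximalIdeal D := by
      intro d
      have h2 : f h (residue D d) = residue D d := by rw [hh]; rfl
      change h • residue D d = residue D d at h2
      rw [← ResidueField.residue_smul, ← sub_eq_zero, ← map_sub, residue_eq_zero_iff] at h2
      exact h2
    let σ : D →ₐ[A] D := MulSemiringAction.toAlgHom A D h
    have h3 : σ = AlgHom.id A D :=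
      Algebra.FormallyUnramified.ext_of_iInf (I := maximalIdeal D)
        (Ideal.iInf_pow_eq_bot_of_isLocalRing _ Ideal.IsPrime.ne_top')
        (fun x => Ideal.Quotient.eq.mpr (h1 x))
    apply eq_of_smul_eq_smul (α := D)
    intro d
    rw [one_smul]
    exact congrArg (fun e : D →ₐ[A] D => e d) h3
  have hle : p ≤ Nat.card (ResidueField D ≃ₐ[k] ResidueField D) := by
    rw [← hcard]
    exact Nat.card_le_card_of_injective f hf
  have hle2 : Nat.card (ResidueField D ≃ₐ[k] ResidueField D) ≤
      Module.finrank k (ResidueField D) := by
    rw [Nat.card_eq_fintype_card]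
    exact AlgEquiv.card_le
  have heq : Module.finrank k (ResidueField D) = p := le_antisymm hfin (hle.trans hle2)
  have hgal : IsGalois k (ResidueField D) :=
    IsGalois.of_card_aut_eq_finrank k _ (le_antisymm hle2 (heq ▸ hle))
  -- shrink to the universe of `k`
  haveI : Small.{v} (ResidueField D) := Module.Finite.small.{v} k (ResidueField D)
  let e : Shrink.{v} (ResidueField D) ≃ₐ[k] ResidueField D := Shrink.algEquiv k (ResidueField D)
  have hgal2 : IsGalois k (Shrink.{v} (ResidueField D)) := IsGalois.of_algEquiv e.symm
  exact hkp _ hgal2 (by rw [e.toLinearEquiv.finrank_eq]; exact heq)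

end Groth.Agent.Lib.Helper29.WildLift
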