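import Mathlib
import Groth.Agent.Lib.Helper29.WildLift.Galois
import Groth.Agent.Lib.Helper29.WildLift.Inertia
import Groth.Agent.Lib.Helper29.WildLift.Residue
import Groth.Agent.Lib.Helper29.Purity.Normal
import Groth.Agent.Lib.Helper73.RegularNormal

/-!
# Lifting automorphisms of the ring of invariants of an action ramified precisely at the origin
(helper29)
-/

set_option autoImplicit false
set_option linter.style.haveILetI false
set_option linter.unusedSectionVars false
universe u v w

namespace Groth.Agent.Lib.Helper29.WildLift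

open IsLocalRing Polynomial IntermediateField

section Main

variable {A : Type u} [CommRing A] [IsRegularLocalRing A] [IsAdicComplete (maximalIdeal A) A]
  {G : Type w} [Group G] [Finite G] [MulSemiringAction G A]
  {K L : Type u} [Field K] [Field L] [Algebra A L] [IsFractionRing A L]
  [Algebra (FixedPoints.subring A G) K] [IsFractionRing (FixedPoints.subring A G) K]
  [Algebra K L] [Algebra (FixedPoints.subring A G) L]
  [IsScalarTower (FixedPoints.subring A G) K L] [IsScalarTower (FixedPoints.subring A G) A L]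
  [MulSemiringAction G L] [SMulDistribClass G A L] [IsGaloisGroup G K L]

theorem case2_false (p : ℕ) [Fact p.Prime] (hdim : 2 ≤ ringKrullDim A)
    {k : Type v} [Field k] [Algebra k A]
    (hk : Function.Surjective (residue A ∘ algebraMap k A))
    (hkp : ∀ (F : Type v) [Field F] [Algebra k F], IsGalois k F → Module.finrank k F ≠ p)
    (hcard : Nat.card G = p)
    (hram : ∀ P : Ideal A, P.IsPrime → P ≠ maximalIdeal A → P.inertia G = ⊥)
    (φ₀ : FixedPoints.subring A G ≃+* FixedPoints.subring A G) (φK : K ≃+* K)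
    (hφK : ∀ b, φK (algebraMap (FixedPoints.subring A G) K b) =
      algebraMap (FixedPoints.subring A G) K (φ₀ b))
    (θ : L) (hθ : K⟮θ⟯ = ⊤) (hnoroot : ∀ x : L, (twist θ φK).eval x ≠ 0) : False := by
  classical
  obtain ⟨hdom, hic⟩ :=
    Groth.Agent.Lib.Helper73.RegularNormal.isIntegrallyClosed_of_isRegularLocalRing A
  haveI := hdom
  haveI := hic
  haveI : FiniteDimensional K L := IsGaloisGroup.finiteDimensional G K L
  haveI : IsGalois K L := IsGaloisGroup.isGalois G K L
  have hint : IsIntegral K θ := Algebra.IsIntegral.isIntegral θ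
  -- the splitting field
  let L₁ := (twist θ φK).SplittingField
  haveI : IsSplittingField L L₁ (twist θ φK) := inferInstance
  haveI : FiniteDimensional L L₁ := IsSplittingField.finiteDimensional L₁ (twist θ φK)
  haveI : IsGalois L L₁ := isGalois_of_isSplittingField (θ := θ) φK
  have hdeg : (map (algebraMap L L₁) (twist θ φK)).degree ≠ 0 := by
    rw [degree_map, twist, degree_map]
    exact (minpoly.degree_pos hint).ne'
  obtain ⟨θ', hθ'⟩ := (IsSplittingField.splits L₁ (twist θ φK)).exists_eval_eq_zero hdeg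
  obtain ⟨τ₁, hτ, -⟩ := exists_twisted_lift hθ hint
    ((algebraMap L L₁).comp ((algebraMap K L).comp (φK : K →+* K))) θ' (by
      rw [eval_map] at hθ'
      unfold twist at hθ'
      rw [eval₂_map] at hθ'
      exact hθ')
  have hτ' : ∀ c : K, τ₁ (algebraMap K L c) = algebraMap L L₁ (algebraMap K L (φK c)) := hτ
  obtain ⟨ρ, hρ⟩ := exists_monoidHom (G := G) hθ φK τ₁ hτ'
  have hρinj := monoidHom_injective hθ φK τ₁ hτ' ρ hρ
  have hpG : (Nat.card G).Prime := hcard ▸ Fact.out
  have hcardH : Nat.card (L₁ ≃ₐ[L] L₁) = p := by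
    rw [card_aut_eq hθ φK τ₁ hτ' hpG hnoroot, hcard]
  -- the integral closure
  let B₀ := FixedPoints.subring A G
  haveI : IsScalarTower A L L₁ := inferInstance
  let D₁ := integralClosure A L₁
  haveI : IsIntegrallyClosed D₁ := integralClosure.isIntegrallyClosedOfFiniteExtension L
  haveI : Module.Finite A D₁ := IsIntegralClosure.finite A L L₁ D₁
  have hinjAL₁ : Function.Injective (algebraMap A L₁) := by
    rw [IsScalarTower.algebraMap_eq A L L₁]
    exact (algebraMap L L₁).injective.comp (IsFractionRing.injective A L)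
  have hinj : Function.Injective (algebraMap A D₁) :=
    fun x y h => hinjAL₁ (congrArg Subtype.val h)
  let gR := galRestrict A L L₁ D₁
  haveI : Finite (D₁ ≃ₐ[A] D₁) := Finite.of_equiv _ gR.toEquiv
  -- `D₁` is Galois over `A`
  haveI : IsGaloisGroup (D₁ ≃ₐ[A] D₁) A D₁ :=
    { faithful := inferInstance
      commutes := inferInstance
      isInvariant := ⟨fun d hd => by
        have hfix : ∀ s : L₁ ≃ₐ[L] L₁, s (algebraMap D₁ L₁ d) = algebraMap D₁ L₁ d := by
          intro s
          rw [← algebraMap_galRestrict_apply A s d]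
          exact congrArg _ (hd (gR s))
        obtain ⟨y, hy⟩ := (IsGalois.mem_range_algebraMap_iff_fixed _).mpr hfix
        have hyint : IsIntegral A y := by
          have h1 : IsIntegral A (algebraMap L L₁ y) := by
            rw [hy]
            exact d.2
          exact (isIntegral_algebraMap_iff (algebraMap L L₁).injective).mp h1
        obtain ⟨a, ha⟩ := IsIntegrallyClosed.algebraMap_eq_of_integral hyint
        refine ⟨a, Subtype.ext ?_⟩
        change algebraMap L L₁ (algebraMap A L a) = algebraMap D₁ L₁ d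
        rw [ha, hy]⟩ }
  have hcardH' : Nat.card (D₁ ≃ₐ[A] D₁) = p := by
    rw [← hcardH]
    exact (Nat.card_congr gR.toEquiv).symm
  -- the twisted copy of `A` inside `D₁`
  haveI : Algebra.IsInvariant B₀ A G := ⟨fun a ha => ⟨⟨a, ha⟩, rfl⟩⟩
  haveI : Algebra.IsIntegral B₀ A := Algebra.IsInvariant.isIntegral B₀ A G
  have hτB : ∀ b : B₀, τ₁ (algebraMap A L (b : A)) = algebraMap A L₁ ((φ₀ b : B₀) : A) := by
    intro b
    have e1 : algebraMap A L (b : A) = algebraMap K L (algebraMap B₀ K b) := by
      rw [← IsScalarTower.algebraMap_apply, IsScalarTower.algebraMap_apply B₀ A L]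
      rfl
    have e2 : algebraMap A L ((φ₀ b : B₀) : A) = algebraMap K L (algebraMap B₀ K (φ₀ b)) := by
      rw [← IsScalarTower.algebraMap_apply, IsScalarTower.algebraMap_apply B₀ A L]
      rfl
    rw [e1, hτ', hφK, ← e2]
    rfl
  have hτint : ∀ a : A, (τ₁.comp (algebraMap A L)) a ∈ D₁ := by
    intro a
    have h1 : IsIntegral B₀ a := Algebra.IsIntegral.isIntegral a
    refine IsIntegral.map_of_comp_eq (R := B₀) (S := A) (T := A) (U := L₁)
      (B₀.subtype.comp (φ₀ : B₀ →+* B₀)) (τ₁.comp (algebraMap A L)) ?_ h1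
    ext b
    exact (hτB b).symm
  let τA : A →+* D₁ := (τ₁.comp (algebraMap A L)).codRestrict D₁ hτint
  have hτA : ∀ b : B₀, τA (b : A) = algebraMap A D₁ ((φ₀ b : B₀) : A) :=
    fun b => Subtype.ext (hτB b)
  let ρ' : (D₁ ≃ₐ[A] D₁) → G := fun σ => ρ (gR.symm σ)
  have hρ' : ∀ (σ : D₁ ≃ₐ[A] D₁) (a : A), σ • τA a = τA (ρ' σ • a) := by
    intro σ a
    apply Subtype.ext
    change algebraMap D₁ L₁ (σ (τA a)) = τ₁ (algebraMap A L (ρ' σ • a))
    rw [← galRestrict_symm_algebraMap_apply A L σ (τA a), algebraMap.smul']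
    exact hρ (gR.symm σ) (algebraMap A L a)
  have hρ1 : ∀ σ : D₁ ≃ₐ[A] D₁, ρ' σ = 1 → σ = 1 := by
    intro σ hσ
    have h1 : gR.symm σ = 1 := hρinj (hσ.trans (map_one ρ).symm)
    have := congrArg gR h1
    rwa [MulEquiv.apply_symm_apply, map_one] at this
  -- étale away from the closed point, hence étale
  have hEt : Algebra.Etale A D₁ := by
    refine Groth.Agent.Lib.Helper29.Purity.purity_normal A D₁ hdim hinj (fun q hq hne => ?_)
    haveI := hq
    have hin : q.inertia (D₁ ≃ₐ[A] D₁) = ⊥ :=
      inertia_eq_bot_of_twist hram φ₀ τA hτA ρ' hρ' hρ1 q hne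
    exact isEtaleAt_of_inertia_eq_bot hinj
      (fun s hs => Algebra.IsInvariant.isInvariant (A := A) (G := D₁ ≃ₐ[A] D₁) s hs) q hin
  haveI : Module.Flat A D₁ := inferInstance
  exact no_galois_cover p hk hkp (D := D₁) hinj (H := D₁ ≃ₐ[A] D₁) hcardH'

theorem exists_field_lift (p : ℕ) [Fact p.Prime] (hdim : 2 ≤ ringKrullDim A)
    {k : Type v} [Field k] [Algebra k A]
    (hk : Function.Surjective (residue A ∘ algebraMap k A))
    (hkp : ∀ (F : Type v) [Field F] [Algebra k F], IsGalois k F → Module.finrank k F ≠ p)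
    (hcard : Nat.card G = p)
    (hram : ∀ P : Ideal A, P.IsPrime → P ≠ maximalIdeal A → P.inertia G = ⊥)
    (φ₀ : FixedPoints.subring A G ≃+* FixedPoints.subring A G) (φK : K ≃+* K)
    (hφK : ∀ b, φK (algebraMap (FixedPoints.subring A G) K b) =
      algebraMap (FixedPoints.subring A G) K (φ₀ b)) :
    ∃ Ψ : L →+* L, ∀ c : K, Ψ (algebraMap K L c) = algebraMap K L (φK c) := by
  haveI : FiniteDimensional K L := IsGaloisGroup.finiteDimensional G K L
  haveI : IsGalois K L := IsGaloisGroup.isGalois G K L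
  obtain ⟨θ, hθ⟩ := Field.exists_primitive_element K L
  have hint : IsIntegral K θ := Algebra.IsIntegral.isIntegral θ
  by_cases hroot : ∃ x : L, (twist θ φK).eval x = 0
  · obtain ⟨x, hx⟩ := hroot
    obtain ⟨Ψ, hΨ, -⟩ := exists_twisted_lift hθ hint
      ((algebraMap K L).comp (φK : K →+* K)) x (by
        unfold twist at hx
        rwa [eval_map] at hx)
    exact ⟨Ψ, hΨ⟩
  · push Not at hroot
    exact (case2_false p hdim hk hkp hcard hram φ₀ φK hφK θ hθ hroot).elim

end Main

section Restrict

/-- a ring automorphism of the fraction field compatible with an automorphism of a subring over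
which the integrally closed domain `A` is integral restricts to an automorphism of `A`. -/
theorem exists_ringEquiv_of_fraction {B₀ A L : Type*} [CommRing B₀] [CommRing A] [IsDomain A]
    [IsIntegrallyClosed A] [Algebra B₀ A] [Algebra.IsIntegral B₀ A] [Field L] [Algebra A L]
    [IsFractionRing A L] (Ψ : L ≃+* L) (φ₀ : B₀ ≃+* B₀)
    (hΨ : ∀ b : B₀, Ψ (algebraMap A L (algebraMap B₀ A b)) =
      algebraMap A L (algebraMap B₀ A (φ₀ b))) :
    ∃ ψ : A ≃+* A, ∀ a : A, algebraMap A L (ψ a) = Ψ (algebraMap A L a) := by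
  have hinj := IsFractionRing.injective A L
  have hΨ' : ∀ b : B₀, Ψ.symm (algebraMap A L (algebraMap B₀ A b)) =
      algebraMap A L (algebraMap B₀ A (φ₀.symm b)) := by
    intro b
    rw [RingEquiv.symm_apply_eq, hΨ, RingEquiv.apply_symm_apply]
  have key : ∀ (Φ : L ≃+* L) (f₀ : B₀ ≃+* B₀),
      (∀ b : B₀, Φ (algebraMap A L (algebraMap B₀ A b)) =
        algebraMap A L (algebraMap B₀ A (f₀ b))) →
      ∀ a : A, ∃ a' : A, algebraMap A L a' = Φ (algebraMap A L a) := by
    intro Φ f₀ h a
    have h1 : IsIntegral B₀ a := Algebra.IsIntegral.isIntegral a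
    have h2 : IsIntegral A (((Φ : L →+* L).comp (algebraMap A L)) a) := by
      refine IsIntegral.map_of_comp_eq (R := B₀) (S := A) (T := A) (U := L)
        ((algebraMap B₀ A).comp (f₀ : B₀ →+* B₀)) ((Φ : L →+* L).comp (algebraMap A L)) ?_ h1
      ext b
      exact (h b).symm
    exact IsIntegrallyClosed.algebraMap_eq_of_integral h2
  choose f hf using key Ψ φ₀ hΨ
  choose g hg using key Ψ.symm φ₀.symm hΨ'
  refine ⟨{ toFun := f, invFun := g, left_inv := ?_, right_inv := ?_, map_mul' := ?_,
            map_add' := ?_ }, hf⟩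
  · intro a
    apply hinj
    rw [hg, hf, RingEquiv.symm_apply_apply]
  · intro a
    apply hinj
    rw [hf, hg, RingEquiv.apply_symm_apply]
  · intro a b
    apply hinj
    rw [map_mul, hf, hf, hf, map_mul, map_mul]
  · intro a b
    apply hinj
    rw [map_add, hf, hf, hf, map_add, map_add]

end Restrict

section Final

variable {A : Type u} [CommRing A] [IsRegularLocalRing A] [IsAdicComplete (maximalIdeal A) A]
  {G : Type w} [Group G] [Finite G] [MulSemiringAction G A]

/-- **Lifting automorphisms of the ring of invariants.** -/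
theorem exists_ringEquiv_extends (p : ℕ) [Fact p.Prime] (hdim : 2 ≤ ringKrullDim A)
    {k : Type v} [Field k] [Algebra k A]
    (hk : Function.Surjective (residue A ∘ algebraMap k A))
    (hkp : ∀ (F : Type v) [Field F] [Algebra k F], IsGalois k F → Module.finrank k F ≠ p)
    (hcard : Nat.card G = p)
    (hram : ∀ P : Ideal A, P.IsPrime → P ≠ maximalIdeal A → P.inertia G = ⊥)
    (φ₀ : FixedPoints.subring A G ≃+* FixedPoints.subring A G) :
    ∃ ψ : A ≃+* A, ∀ b : FixedPoints.subring A G, ψ (b : A) = ((φ₀ b : FixedPoints.subring A G) : A) := by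
  classical
  obtain ⟨hdom, hic⟩ :=
    Groth.Agent.Lib.Helper73.RegularNormal.isIntegrallyClosed_of_isRegularLocalRing A
  haveI := hdom
  haveI := hic
  let B₀ := FixedPoints.subring A G
  let L := FractionRing A
  let K := FractionRing B₀
  haveI : FaithfulSMul B₀ A := (faithfulSMul_iff_algebraMap_injective B₀ A).mpr Subtype.val_injective
  letI : Algebra K L := FractionRing.liftAlgebra B₀ L
  haveI : IsScalarTower B₀ K L := FractionRing.isScalarTower_liftAlgebra B₀ L
  letI : MulSemiringAction G L := IsFractionRing.mulSemiringAction G A L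
  haveI : SMulDistribClass G A L := IsFractionRing.smulDistribClass G A L
  -- the action is faithful
  have hbot : (⊥ : Ideal A) ≠ maximalIdeal A := by
    intro h
    have hf : IsField A := IsLocalRing.isField_iff_maximalIdeal_eq.mpr h.symm
    have := ringKrullDim_eq_zero_of_isField hf
    rw [this] at hdim
    exact absurd hdim (by decide)
  haveI : FaithfulSMul G A := ⟨fun {g₁ g₂} h => by
    have h1 : g₂⁻¹ * g₁ ∈ (⊥ : Ideal A).inertia G := by
      intro a
      change (g₂⁻¹ * g₁) • a - a ∈ (⊥ : Ideal A)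
      rw [Ideal.mem_bot, sub_eq_zero, mul_smul, h a, inv_smul_smul]
    rw [hram ⊥ Ideal.isPrime_bot hbot, Subgroup.mem_bot, inv_mul_eq_one] at h1
    exact h1.symm⟩
  haveI : IsGaloisGroup G B₀ A :=
    { faithful := inferInstance
      commutes := ⟨fun σ r a => by
        change σ • ((r : A) * a) = (r : A) * σ • a
        rw [smul_mul', r.2 σ]⟩
      isInvariant := ⟨fun a ha => ⟨⟨a, ha⟩, rfl⟩⟩ }
  haveI : IsGaloisGroup G K L := IsGaloisGroup.to_isFractionRing G B₀ A K L
  haveI : Algebra.IsIntegral B₀ A :=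
    (IsGaloisGroup.isInvariant (G := G) (A := B₀) (B := A)).isIntegral
  haveI : FiniteDimensional K L := IsGaloisGroup.finiteDimensional G K L
  let φK : K ≃+* K := IsFractionRing.ringEquivOfRingEquiv φ₀
  have hφK : ∀ b, φK (algebraMap B₀ K b) = algebraMap B₀ K (φ₀ b) :=
    IsFractionRing.ringEquivOfRingEquiv_algebraMap φ₀
  have hφK' : ∀ b, φK.symm (algebraMap B₀ K b) = algebraMap B₀ K (φ₀.symm b) := by
    intro b
    rw [RingEquiv.symm_apply_eq, hφK, RingEquiv.apply_symm_apply]
  obtain ⟨Ψ, hΨ⟩ := exists_field_lift (G := G) (K := K) (L := L) p hdim hk hkp hcard hram φ₀ φK hφK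
  obtain ⟨Ψ', hΨ'⟩ :=
    exists_field_lift (G := G) (K := K) (L := L) p hdim hk hkp hcard hram φ₀.symm φK.symm hφK'
  -- `Ψ` is bijective
  have hsurj : Function.Surjective Ψ := by
    let e : L →ₐ[K] L :=
      { toRingHom := Ψ.comp Ψ'
        commutes' := fun c => by
          change Ψ (Ψ' (algebraMap K L c)) = algebraMap K L c
          rw [hΨ', hΨ, RingEquiv.apply_symm_apply] }
    have he := (Algebra.IsAlgebraic.algHom_bijective e).2
    intro y
    obtain ⟨x, hx⟩ := he y
    exact ⟨Ψ' x, hx⟩
  let Ψe : L ≃+* L := RingEquiv.ofBijective Ψ ⟨Ψ.injective, hsurj⟩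
  have hΨe : ∀ b : B₀, Ψe (algebraMap A L (algebraMap B₀ A b)) =
      algebraMap A L (algebraMap B₀ A (φ₀ b)) := by
    intro b
    have e1 : ∀ b : B₀, algebraMap A L (algebraMap B₀ A b) = algebraMap K L (algebraMap B₀ K b) := by
      intro b
      rw [← IsScalarTower.algebraMap_apply, ← IsScalarTower.algebraMap_apply]
    change Ψ (algebraMap A L (algebraMap B₀ A b)) = _
    rw [e1, e1, hΨ, hφK]
  obtain ⟨ψ, hψ⟩ := exists_ringEquiv_of_fraction (B₀ := B₀) (A := A) (L := L) Ψe φ₀ hΨe
  refine ⟨ψ, fun b => ?_⟩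
  apply IsFractionRing.injective A L
  rw [hψ]
  exact hΨe b

end Final

end Groth.Agent.Lib.Helper29.WildLift
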